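import Mathlib
import Groth.Agent.Lib.Helper7.Vert.Ring
import Groth.Agent.Lib.Helper7.FibTrdeg.Main

/-!
# The dimension formula for flat finite type domains, chart version

For `A₀ ⊆ B₀` domains, `B₀` flat of finite type over `A₀`, and a prime `𝔔` of `B₀` over `𝔭`:
`ht(𝔔 / 𝔭 B₀) + trdeg (A₀/𝔭) (B₀/𝔔) = trdeg A₀ B₀`. Also the going-down inequality for heights
without Noetherian hypotheses.
-/

set_option linter.style.haveILetI false
set_option linter.unusedVariables false
set_option linter.unusedSectionVars false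
set_option autoImplicit false
set_option backward.isDefEq.respectTransparency.types false
set_option synthInstance.maxHeartbeats 400000
set_option maxHeartbeats 1600000

universe u

namespace Groth.Agent.Helper7.PrufDim

open IsLocalRing Groth.Agent.Lib.Helper4 Groth.Agent.Helper7.FibTrdeg Groth.Agent.Helper7.Vert

/-- The dimension of `S_𝔓 / I S_𝔓` is the height of `𝔓 / I`. -/
theorem dim_quot_loc_eq_height {S B : Type u} [CommRing S] [CommRing B] [Algebra S B]
    (𝔓 : Ideal S) [𝔓.IsPrime] [IsLocalization.AtPrime B 𝔓] (I : Ideal S) (hI : I ≤ 𝔓) :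
    ringKrullDim (B ⧸ I.map (algebraMap S B)) =
      ((𝔓.map (Ideal.Quotient.mk I)).height : WithBot ℕ∞) := by
  haveI hP'prime : (𝔓.map (Ideal.Quotient.mk I)).IsPrime :=
    Ideal.map_isPrime_of_surjective Ideal.Quotient.mk_surjective (by rw [Ideal.mk_ker]; exact hI)
  have hsub : Algebra.algebraMapSubmonoid (S ⧸ I) 𝔓.primeCompl =
      (𝔓.map (Ideal.Quotient.mk I)).primeCompl := by
    ext y
    obtain ⟨y, rfl⟩ := Ideal.Quotient.mk_surjective y
    simp only [Algebra.algebraMapSubmonoid, Submonoid.mem_map, Ideal.mem_primeCompl_iff]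
    constructor
    · rintro ⟨z, hz, hzy⟩
      rw [← hzy]
      intro hmem
      exact hz ((Ideal.mem_quotient_iff_mem hI).mp hmem)
    · intro hy
      exact ⟨y, fun h => hy ((Ideal.mem_quotient_iff_mem hI).mpr h), rfl⟩
  haveI hloc : IsLocalization.AtPrime (B ⧸ I.map (algebraMap S B))
      (𝔓.map (Ideal.Quotient.mk I)) := by
    have hinst := (inferInstance : IsLocalization
      (Algebra.algebraMapSubmonoid (S ⧸ I) 𝔓.primeCompl) (B ⧸ I.map (algebraMap S B)))
    rw [hsub] at hinst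
    exact hinst
  exact IsLocalization.AtPrime.ringKrullDim_eq_height (𝔓.map (Ideal.Quotient.mk I)) _

/-- chart version of the dimension formula for flat algebras -/
theorem dim_formula_chart {A₀ B₀ : Type u} [CommRing A₀] [CommRing B₀] [IsDomain A₀] [IsDomain B₀]
    [Algebra A₀ B₀] [FaithfulSMul A₀ B₀] [Algebra.FiniteType A₀ B₀] [Module.Flat A₀ B₀]
    (𝔭 : Ideal A₀) [𝔭.IsPrime] (𝔔 : Ideal B₀) [𝔔.IsPrime] [𝔔.LiesOver 𝔭] :
    ∃ d e : ℕ, (𝔔.map (Ideal.Quotient.mk (𝔭.map (algebraMap A₀ B₀)))).height = d ∧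
      Algebra.trdeg (A₀ ⧸ 𝔭) (B₀ ⧸ 𝔔) = e ∧ Algebra.trdeg A₀ B₀ = (d + e : ℕ) := by
  letI algAB : Algebra (Localization.AtPrime 𝔭) (Localization.AtPrime 𝔔) :=
    Localization.AtPrime.algebraOfLiesOver 𝔭 𝔔
  haveI : IsDomain (Localization.AtPrime 𝔭) := IsLocalization.isDomain_of_atPrime _ 𝔭
  haveI : IsDomain (Localization.AtPrime 𝔔) := IsLocalization.isDomain_of_atPrime _ 𝔔
  haveI hT1 : IsScalarTower A₀ (Localization.AtPrime 𝔭) (Localization.AtPrime 𝔔) := inferInstance
  haveI hT2 : IsScalarTower A₀ B₀ (Localization.AtPrime 𝔔) := inferInstance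
  haveI hLH : IsLocalHom (algebraMap (Localization.AtPrime 𝔭) (Localization.AtPrime 𝔔)) :=
    inferInstance
  have hinjA : Function.Injective (algebraMap A₀ (Localization.AtPrime 𝔭)) :=
    IsLocalization.injective _ 𝔭.primeCompl_le_nonZeroDivisors
  have hinjB : Function.Injective (algebraMap B₀ (Localization.AtPrime 𝔔)) :=
    IsLocalization.injective _ 𝔔.primeCompl_le_nonZeroDivisors
  haveI hF1 : FaithfulSMul A₀ (Localization.AtPrime 𝔭) :=
    (faithfulSMul_iff_algebraMap_injective _ _).mpr hinjA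
  haveI hF2 : FaithfulSMul B₀ (Localization.AtPrime 𝔔) :=
    (faithfulSMul_iff_algebraMap_injective _ _).mpr hinjB
  haveI hF3 : FaithfulSMul A₀ (Localization.AtPrime 𝔔) := by
    rw [faithfulSMul_iff_algebraMap_injective, IsScalarTower.algebraMap_eq A₀ B₀]
    exact hinjB.comp (FaithfulSMul.algebraMap_injective A₀ B₀)
  haveI hF4 : FaithfulSMul (Localization.AtPrime 𝔭) (Localization.AtPrime 𝔔) := by
    rw [faithfulSMul_iff_algebraMap_injective, injective_iff_map_eq_zero]
    intro x hx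
    obtain ⟨⟨a, s⟩, has⟩ := IsLocalization.surj 𝔭.primeCompl x
    have has' : x * algebraMap A₀ (Localization.AtPrime 𝔭) (s : A₀) =
        algebraMap A₀ (Localization.AtPrime 𝔭) a := has
    have h1 : algebraMap A₀ (Localization.AtPrime 𝔔) a = 0 := by
      rw [IsScalarTower.algebraMap_apply A₀ (Localization.AtPrime 𝔭) (Localization.AtPrime 𝔔),
        ← has', map_mul, hx, zero_mul]
    have h2 : a = 0 := by
      apply FaithfulSMul.algebraMap_injective A₀ (Localization.AtPrime 𝔔)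
      rw [h1, map_zero]
    rw [h2, map_zero] at has'
    have hu := IsLocalization.map_units (Localization.AtPrime 𝔭) s
    exact (hu.mul_left_eq_zero).mp has'
  haveI hE1 : Algebra.EssFiniteType A₀ (Localization.AtPrime 𝔔) := inferInstance
  haveI hE2 : Algebra.EssFiniteType (Localization.AtPrime 𝔭) (Localization.AtPrime 𝔔) :=
    Algebra.EssFiniteType.of_comp A₀ _ _
  haveI hFl : Module.Flat (Localization.AtPrime 𝔭) (Localization.AtPrime 𝔔) := inferInstance
  have hmaxA : Ideal.map (algebraMap A₀ (Localization.AtPrime 𝔭)) 𝔭 =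
      maximalIdeal (Localization.AtPrime 𝔭) := Localization.AtPrime.map_eq_maximalIdeal
  have hcomp : (algebraMap B₀ (Localization.AtPrime 𝔔)).comp (algebraMap A₀ B₀) =
      (algebraMap (Localization.AtPrime 𝔭) (Localization.AtPrime 𝔔)).comp
        (algebraMap A₀ (Localization.AtPrime 𝔭)) := by
    rw [← IsScalarTower.algebraMap_eq A₀ B₀, ← IsScalarTower.algebraMap_eq A₀ (Localization.AtPrime 𝔭)]
  haveI : Algebra.IsAlgebraic A₀ (Localization.AtPrime 𝔭) :=
    IsLocalization.isAlgebraic _ 𝔭.primeCompl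
  haveI : Algebra.IsAlgebraic B₀ (Localization.AtPrime 𝔔) :=
    IsLocalization.isAlgebraic _ 𝔔.primeCompl
  obtain ⟨d, e, hd, he, hsum⟩ := FibTrdeg.main (A := Localization.AtPrime 𝔭)
    (B := Localization.AtPrime 𝔔)
  refine ⟨d, e, ?_, ?_, ?_⟩
  · have hJ : 𝔭.map (algebraMap A₀ B₀) ≤ 𝔔 := by
      rw [Ideal.map_le_iff_le_comap]
      exact (Ideal.over_def 𝔔 𝔭).le
    have h1 := dim_quot_loc_eq_height (B := Localization.AtPrime 𝔔) 𝔔
      (𝔭.map (algebraMap A₀ B₀)) hJ
    have hmap : (𝔭.map (algebraMap A₀ B₀)).map (algebraMap B₀ (Localization.AtPrime 𝔔)) =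
        (maximalIdeal (Localization.AtPrime 𝔭)).map
          (algebraMap (Localization.AtPrime 𝔭) (Localization.AtPrime 𝔔)) := by
      rw [Ideal.map_map, ← hmaxA, Ideal.map_map, hcomp]
    rw [hmap, hd] at h1
    exact_mod_cast h1.symm
  · letI := ((algebraMap (B₀ ⧸ 𝔔) 𝔔.ResidueField).comp
      (algebraMap (A₀ ⧸ 𝔭) (B₀ ⧸ 𝔔))).toAlgebra
    haveI : IsScalarTower (A₀ ⧸ 𝔭) (B₀ ⧸ 𝔔) 𝔔.ResidueField := .of_algebraMap_eq' rfl
    haveI : IsScalarTower (A₀ ⧸ 𝔭) 𝔭.ResidueField 𝔔.ResidueField := by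
      refine .of_algebraMap_eq fun x ↦ ?_
      obtain ⟨x, rfl⟩ := Ideal.Quotient.mk_surjective x
      simp [RingHom.algebraMap_toAlgebra, ← IsScalarTower.algebraMap_apply]
    rw [← he]
    exact (DimIneq1.trdeg_fractionRing_rel (A₀ ⧸ 𝔭) (B₀ ⧸ 𝔔) 𝔭.ResidueField 𝔔.ResidueField).symm
  · rw [← hsum]
    exact (trdeg_eq_of_algebraic A₀ B₀ (Localization.AtPrime 𝔭) (Localization.AtPrime 𝔔)).symm

/-- going down: `ht 𝔭 + ht(𝔔 / 𝔭 B) ≤ ht 𝔔` (no Noetherian hypothesis, finite heights). -/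
theorem height_add_le_of_hasGoingDown {R S : Type u} [CommRing R] [CommRing S] [Algebra R S]
    [Algebra.HasGoingDown R S] (p : Ideal R) [p.IsPrime] (P : Ideal S) [P.IsPrime] [P.LiesOver p]
    [hPq : (P.map (Ideal.Quotient.mk (p.map (algebraMap R S)))).IsPrime]
    [p.FiniteHeight] [(P.map (Ideal.Quotient.mk (p.map (algebraMap R S)))).FiniteHeight] :
    p.height + (P.map (Ideal.Quotient.mk (p.map (algebraMap R S)))).height ≤ P.height := by
  obtain ⟨lp, hlp, hlenp⟩ := p.exists_ltSeries_length_eq_height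
  obtain ⟨lq, hlq, hlenq⟩ :=
    (P.map (Ideal.Quotient.mk (p.map (algebraMap R S)))).exists_ltSeries_length_eq_height
  let l' : LTSeries (PrimeSpectrum S) :=
    lq.map (PrimeSpectrum.comap (Ideal.Quotient.mk (p.map (algebraMap R S))))
      (RingHom.strictMono_comap_of_surjective Ideal.Quotient.mk_surjective)
  have : l'.head.asIdeal.LiesOver lp.last.asIdeal := by
    simp only [LTSeries.head_map, hlp, l']
    refine ⟨?_⟩
    refine le_antisymm ?_ ?_
    · rw [← Ideal.map_le_iff_le_comap, PrimeSpectrum.comap_asIdeal, ← Ideal.map_le_iff_le_comap]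
      simp
    · conv_rhs => rw [Ideal.LiesOver.over (p := p) (P := P), Ideal.under_def]
      refine Ideal.comap_mono (le_trans (Ideal.comap_mono (lq.head_le_last)) ?_)
      simp [hlq, Ideal.map_le_iff_le_comap, Ideal.LiesOver.over (p := p) (P := P)]
  obtain ⟨lp', hlp'len, hlp', _⟩ := Ideal.exists_ltSeries_of_hasGoingDown lp l'.head.asIdeal
  have : (lp'.smash l' hlp').length = lp.length + lq.length := by simp [hlp'len, l']
  rw [← hlenp, ← hlenq, ← Nat.cast_add, ← this,
    (⟨P, ‹_›⟩ : PrimeSpectrum S).height_eq_orderHeight]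
  apply Order.length_le_height
  simp [hlq, l', ← PrimeSpectrum.asIdeal_le_asIdeal, Ideal.map_le_iff_le_comap,
    Ideal.LiesOver.over (p := p) (P := P)]

end Groth.Agent.Helper7.PrufDim
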