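import Mathlib
import Groth.Agent.Lib.Helper7.PrufDim.Chart
import Groth.Agent.Lib.Helper4.DimEq2
import Groth.Agent.Lib.Helper4.DimFT2
import Groth.Agent.Lib.Helper4.DimIneq1
import Groth.Agent.Lib.Helper7.Vert.Ring

/-!
# The dimension function `δ` on finite type algebras over a Prüfer domain

For a Prüfer domain `R` of finite Krull dimension and a finite type `R`-algebra `S`, and primes
`P ≤ Q` of `S`, we compare `trdeg` and heights of the contractions.
-/

set_option linter.style.haveILetI false
set_option linter.unusedVariables false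
set_option linter.unusedSectionVars false
set_option autoImplicit false
set_option backward.isDefEq.respectTransparency.types false
set_option synthInstance.maxHeartbeats 400000
set_option maxHeartbeats 1600000

universe u

namespace Groth.Agent.Helper7.PrufDim

open IsLocalRing Groth.Agent.Lib.Helper4 Groth.Agent.Helper7.FibTrdeg Groth.Agent.Helper7.Vert

/-- In a partial order in which the elements below `y` form a chain, heights add up. -/
theorem height_eq_add_height_Ici {α : Type*} [PartialOrder α] (x y : α) (hxy : x ≤ y)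
    (htot : ∀ a b : α, a ≤ y → b ≤ y → a ≤ b ∨ b ≤ a) (hfin : Order.height y ≠ ⊤) :
    Order.height y = Order.height x + Order.height (⟨y, hxy⟩ : Set.Ici x) := by
  apply le_antisymm
  · obtain ⟨n, hn⟩ := ENat.ne_top_iff_exists.mp hfin
    have hxfin : Order.height x ≠ ⊤ := ne_top_of_le_ne_top hfin (Order.height_mono hxy)
    obtain ⟨m, hm⟩ := ENat.ne_top_iff_exists.mp hxfin
    have hmn : m ≤ n := by
      have := Order.height_mono hxy
      rw [← hn, ← hm] at this
      exact_mod_cast this
    obtain ⟨l, hlast, hlen⟩ := Order.exists_series_of_height_eq_coe y hn.symm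
    have hidx : ∀ i : Fin (l.length + 1), Order.height (l i) = (i.1 : ℕ∞) := by
      intro i
      apply Order.height_eq_index_of_length_eq_height_last
      rw [hlast, hlen, ← hn]
    have hm_lt : m < l.length + 1 := by omega
    have hxl : x = l ⟨m, hm_lt⟩ := by
      have hle : l ⟨m, hm_lt⟩ ≤ y := by
        rw [← hlast]; exact l.monotone (Fin.le_last _)
      have hh : Order.height (l ⟨m, hm_lt⟩) = (m : ℕ∞) := hidx ⟨m, hm_lt⟩
      rcases htot x (l ⟨m, hm_lt⟩) hxy hle with h | h
      · rcases h.lt_or_eq with h | h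
        · exfalso
          have h1 := Order.height_add_one_le h
          rw [hh, ← hm] at h1
          have h2 : m + 1 ≤ m := by exact_mod_cast h1
          omega
        · exact h
      · rcases h.lt_or_eq with h | h
        · exfalso
          have h1 := Order.height_add_one_le h
          rw [hh, ← hm] at h1
          have h2 : m + 1 ≤ m := by exact_mod_cast h1
          omega
        · exact h.symm
    have hk : ((n - m : ℕ) : ℕ∞) ≤ Order.height (⟨y, hxy⟩ : Set.Ici x) := by
      let t : LTSeries (Set.Ici x) := LTSeries.mk (n - m)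
        (fun j => ⟨l ⟨m + j.1, by have := j.2; omega⟩,
          hxl.le.trans (l.monotone (by simp [Fin.le_def]))⟩)
        (by
          intro i j hij
          apply Subtype.mk_lt_mk.mpr
          apply l.strictMono
          simp only [Fin.lt_def] at hij ⊢
          omega)
      have hle : t.last ≤ ⟨y, hxy⟩ := by
        change (t.last : α) ≤ y
        rw [← hlast]
        exact l.monotone (Fin.le_last _)
      exact Order.length_le_height hle
    rw [← hn, ← hm]
    calc (n : ℕ∞) = (m : ℕ∞) + ((n - m : ℕ) : ℕ∞) := by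
          rw [← Nat.cast_add]
          congr 1
          omega
      _ ≤ (m : ℕ∞) + Order.height (⟨y, hxy⟩ : Set.Ici x) := add_le_add le_rfl hk
  · have hkfin : Order.height (⟨y, hxy⟩ : Set.Ici x) ≠ ⊤ := by
      refine ne_top_of_le_ne_top hfin ?_
      exact Order.height_le_height_apply_of_strictMono (fun z : Set.Ici x => z.1)
        (fun a b h => h) ⟨y, hxy⟩
    obtain ⟨k, hk⟩ := ENat.ne_top_iff_exists.mp hkfin
    obtain ⟨t, htlast, htlen⟩ :=
      Order.exists_series_of_height_eq_coe (⟨y, hxy⟩ : Set.Ici x) hk.symm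
    have hind : ∀ i : Fin (t.length + 1),
        Order.height x + (i.1 : ℕ∞) ≤ Order.height (t i).1 := by
      intro i
      induction i using Fin.induction with
      | zero =>
        have h0 : Order.height x ≤ Order.height (t 0).1 :=
          Order.height_mono (show x ≤ (t 0).1 from (t 0).2)
        simpa using h0
      | succ i ih =>
        have hlt : t i.castSucc < t i.succ := t.step i
        have hlt' : (t i.castSucc).1 < (t i.succ).1 := hlt
        have h1 := Order.height_add_one_le hlt'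
        calc Order.height x + ((i.succ : Fin (t.length + 1)).1 : ℕ∞)
            = Order.height x + ((i.castSucc : Fin (t.length + 1)).1 : ℕ∞) + 1 := by
              simp [add_assoc]
          _ ≤ Order.height (t i.castSucc).1 + 1 := add_le_add ih le_rfl
          _ ≤ _ := h1
    have hfinal := hind (Fin.last _)
    have hl : t (Fin.last _) = ⟨y, hxy⟩ := htlast
    rw [hl] at hfinal
    rw [← hk, ← htlen]
    simpa using hfinal

/-- Localizations of quotients of a Prüfer domain at primes are valuation rings. -/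
theorem valuationRing_atPrime_quotient {R : Type u} [CommRing R] [IsDomain R]
    (hR : ∀ (p : Ideal R) [p.IsPrime], ValuationRing (Localization.AtPrime p))
    (p : Ideal R) [p.IsPrime] (qb : Ideal (R ⧸ p)) [qb.IsPrime] :
    ValuationRing (Localization.AtPrime qb) := by
  rw [ValuationRing.iff_dvd_total]
  haveI hq : (qb.comap (Ideal.Quotient.mk p)).IsPrime := Ideal.comap_isPrime _ _
  haveI := hR (qb.comap (Ideal.Quotient.mk p))
  have hmain : ∀ a b : R,
      algebraMap R (Localization.AtPrime (qb.comap (Ideal.Quotient.mk p))) a ∣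
        algebraMap R (Localization.AtPrime (qb.comap (Ideal.Quotient.mk p))) b →
      algebraMap (R ⧸ p) (Localization.AtPrime qb) (Ideal.Quotient.mk p a) ∣
        algebraMap (R ⧸ p) (Localization.AtPrime qb) (Ideal.Quotient.mk p b) := by
    rintro a b ⟨v, hv⟩
    obtain ⟨⟨c, u⟩, hcu⟩ := IsLocalization.surj (qb.comap (Ideal.Quotient.mk p)).primeCompl v
    have hcu' : v * algebraMap R (Localization.AtPrime (qb.comap (Ideal.Quotient.mk p))) (u : R) =
        algebraMap R (Localization.AtPrime (qb.comap (Ideal.Quotient.mk p))) c := hcu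
    have h1 : b * (u : R) = a * c := by
      apply IsLocalization.injective (Localization.AtPrime (qb.comap (Ideal.Quotient.mk p)))
        (qb.comap (Ideal.Quotient.mk p)).primeCompl_le_nonZeroDivisors
      rw [map_mul, map_mul, hv, mul_assoc, hcu']
    have hu : IsUnit (algebraMap (R ⧸ p) (Localization.AtPrime qb)
        (Ideal.Quotient.mk p (u : R))) :=
      IsLocalization.map_units (Localization.AtPrime qb)
        (⟨Ideal.Quotient.mk p (u : R), Ideal.mem_primeCompl_iff.mpr (fun h =>
          Ideal.mem_primeCompl_iff.mp u.2 (Ideal.mem_comap.mpr h))⟩ : qb.primeCompl)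
    have h2 : algebraMap (R ⧸ p) (Localization.AtPrime qb) (Ideal.Quotient.mk p b) *
        algebraMap (R ⧸ p) (Localization.AtPrime qb) (Ideal.Quotient.mk p (u : R)) =
        algebraMap (R ⧸ p) (Localization.AtPrime qb) (Ideal.Quotient.mk p a) *
        algebraMap (R ⧸ p) (Localization.AtPrime qb) (Ideal.Quotient.mk p c) := by
      rw [← map_mul, ← map_mul, ← map_mul, ← map_mul, h1]
    exact (hu.dvd_mul_right).mp ⟨_, h2⟩
  have key : ∀ a b : R,
      algebraMap (R ⧸ p) (Localization.AtPrime qb) (Ideal.Quotient.mk p a) ∣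
        algebraMap (R ⧸ p) (Localization.AtPrime qb) (Ideal.Quotient.mk p b) ∨
      algebraMap (R ⧸ p) (Localization.AtPrime qb) (Ideal.Quotient.mk p b) ∣
        algebraMap (R ⧸ p) (Localization.AtPrime qb) (Ideal.Quotient.mk p a) := by
    intro a b
    rcases ValuationRing.dvd_total
      (algebraMap R (Localization.AtPrime (qb.comap (Ideal.Quotient.mk p))) a)
      (algebraMap R (Localization.AtPrime (qb.comap (Ideal.Quotient.mk p))) b) with h | h
    · exact Or.inl (hmain a b h)
    · exact Or.inr (hmain b a h)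
  refine ⟨fun x y => ?_⟩
  obtain ⟨⟨a', s⟩, has⟩ := IsLocalization.surj qb.primeCompl x
  obtain ⟨⟨b', t⟩, hbt⟩ := IsLocalization.surj qb.primeCompl y
  obtain ⟨a, rfl⟩ := Ideal.Quotient.mk_surjective a'
  obtain ⟨b, rfl⟩ := Ideal.Quotient.mk_surjective b'
  have hs : IsUnit (algebraMap (R ⧸ p) (Localization.AtPrime qb) (s : R ⧸ p)) :=
    IsLocalization.map_units _ s
  have ht : IsUnit (algebraMap (R ⧸ p) (Localization.AtPrime qb) (t : R ⧸ p)) :=
    IsLocalization.map_units _ t
  have has' : x * algebraMap (R ⧸ p) (Localization.AtPrime qb) (s : R ⧸ p) =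
      algebraMap (R ⧸ p) (Localization.AtPrime qb) (Ideal.Quotient.mk p a) := has
  have hbt' : y * algebraMap (R ⧸ p) (Localization.AtPrime qb) (t : R ⧸ p) =
      algebraMap (R ⧸ p) (Localization.AtPrime qb) (Ideal.Quotient.mk p b) := hbt
  rcases key a b with h | h
  · left
    rw [← has', ← hbt'] at h
    exact (ht.dvd_mul_right).mp ((hs.mul_right_dvd).mp h)
  · right
    rw [← has', ← hbt'] at h
    exact (hs.dvd_mul_right).mp ((ht.mul_right_dvd).mp h)

/-- Primes below a prime with valuation-ring localization form a chain. -/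
theorem prime_le_total {A : Type u} [CommRing A] [IsDomain A] (q : Ideal A) [q.IsPrime]
    [ValuationRing (Localization.AtPrime q)] (p₁ p₂ : Ideal A) [hp₁ : p₁.IsPrime]
    [hp₂ : p₂.IsPrime] (h₁ : p₁ ≤ q) (h₂ : p₂ ≤ q) : p₁ ≤ p₂ ∨ p₂ ≤ p₁ := by
  have hd₁ : Disjoint (q.primeCompl : Set A) p₁ := by
    rw [Set.disjoint_left]
    intro x hx hx'
    exact hx (h₁ hx')
  have hd₂ : Disjoint (q.primeCompl : Set A) p₂ := by
    rw [Set.disjoint_left]
    intro x hx hx'
    exact hx (h₂ hx')
  have e₁ := IsLocalization.under_map_of_isPrime_disjoint q.primeCompl (Localization.AtPrime q)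
    hp₁ hd₁
  have e₂ := IsLocalization.under_map_of_isPrime_disjoint q.primeCompl (Localization.AtPrime q)
    hp₂ hd₂
  rcases (ValuationRing.le_total_ideal (A := Localization.AtPrime q)).total
    (p₁.map (algebraMap A (Localization.AtPrime q)))
    (p₂.map (algebraMap A (Localization.AtPrime q))) with h | h
  · left
    rw [← e₁, ← e₂]
    exact Ideal.comap_mono h
  · right
    rw [← e₁, ← e₂]
    exact Ideal.comap_mono h

theorem mem_minimalPrimes_of_height_map_mk_eq_zero {S : Type u} [CommRing S] (I 𝔓 : Ideal S)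
    [𝔓.IsPrime] (hI : I ≤ 𝔓) (h : (𝔓.map (Ideal.Quotient.mk I)).height = 0) :
    𝔓 ∈ I.minimalPrimes := by
  haveI := DimFT2.isPrime_map_mk I 𝔓 hI
  rw [Ideal.minimalPrimes_eq_comap]
  exact ⟨𝔓.map (Ideal.Quotient.mk I), Ideal.height_eq_zero_iff.mp h, DimFT2.comap_map_mk' I 𝔓 hI⟩

theorem finiteRingKrullDim_of_lt_top {A : Type u} [CommRing A] [Nontrivial A]
    (h : ringKrullDim A < ⊤) : FiniteRingKrullDim A := by
  rw [finiteRingKrullDim_iff_ne_bot_and_top]
  refine ⟨?_, h.ne⟩
  intro hb
  have h0 := ringKrullDim_nonneg_of_nontrivial (R := A)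
  rw [hb] at h0
  exact absurd h0 (not_le.mpr (WithBot.bot_lt_coe (0 : ℕ∞)))

/-- The key comparison for primes `P ≤ Q` in a finite type algebra over a Prüfer domain. -/
theorem key {R : Type u} [CommRing R] [IsDomain R]
    (hR : ∀ (p : Ideal R) [p.IsPrime], ValuationRing (Localization.AtPrime p))
    (hdim : ringKrullDim R < ⊤)
    {S : Type u} [CommRing S] [Algebra R S] [Algebra.FiniteType R S]
    (P Q : Ideal S) [P.IsPrime] [Q.IsPrime] (hPQ : P ≤ Q) :
    ∃ d a : ℕ,
      Cardinal.toNat (Algebra.trdeg (R ⧸ P.under R) (S ⧸ P)) =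
        d + Cardinal.toNat (Algebra.trdeg (R ⧸ Q.under R) (S ⧸ Q)) ∧
      (Q.under R).height.toNat = (P.under R).height.toNat + a ∧
      (P ≠ Q → 1 ≤ d + a) ∧
      ((∀ c : Ideal S, c.IsPrime → P ≤ c → c ≤ Q → c = P ∨ c = Q) → d + a ≤ 1) := by
  have h0 : P.under R ≤ Q.under R := Ideal.comap_mono hPQ
  haveI : IsDomain (R ⧸ P.under R) := Ideal.Quotient.isDomain _
  haveI : IsDomain (S ⧸ P) := Ideal.Quotient.isDomain _
  haveI : Algebra.FiniteType R (S ⧸ P) :=
    Algebra.FiniteType.of_surjective (Ideal.Quotient.mkₐ R P) (Ideal.Quotient.mkₐ_surjective R P)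
  haveI : Algebra.FiniteType (R ⧸ P.under R) (S ⧸ P) :=
    Algebra.FiniteType.of_restrictScalars_finiteType R (R ⧸ P.under R) (S ⧸ P)
  haveI hp1 := DimFT2.isPrime_map_mk P Q hPQ
  haveI hp2 := DimFT2.isPrime_map_mk (P.under R) (Q.under R) h0
  haveI hlo := liesOver_map_mk' (Q.under R) Q P hPQ
  haveI hfR : FiniteRingKrullDim R := finiteRingKrullDim_of_lt_top hdim
  haveI hfRb : FiniteRingKrullDim (R ⧸ P.under R) :=
    finiteRingKrullDim_of_lt_top (lt_of_le_of_lt (ringKrullDim_quotient_le _) hdim)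
  -- flatness
  haveI hflat : Module.Flat (R ⧸ P.under R) (S ⧸ P) := by
    rw [Module.Flat.flat_iff_torsion_eq_bot_of_valuationRing_localization_isMaximal
      (fun m _ => valuationRing_atPrime_quotient hR (P.under R) m)]
    rw [eq_bot_iff]
    intro x hx
    rw [Submodule.mem_torsion_iff] at hx
    obtain ⟨a, ha⟩ := hx
    rw [Submodule.mem_bot]
    have ha' : (a : R ⧸ P.under R) • x = 0 := ha
    rw [Algebra.smul_def] at ha'
    rcases mul_eq_zero.mp ha' with h | h
    · exfalso
      have h2 : (a : R ⧸ P.under R) = 0 :=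
        FaithfulSMul.algebraMap_injective (R ⧸ P.under R) (S ⧸ P) (by rw [h, map_zero])
      exact nonZeroDivisors.coe_ne_zero a h2
    · exact h
  obtain ⟨d, e, hd, he, hsum⟩ := dim_formula_chart (A₀ := R ⧸ P.under R) (B₀ := S ⧸ P)
    ((Q.under R).map (Ideal.Quotient.mk (P.under R))) (Q.map (Ideal.Quotient.mk P))
  have htr : Algebra.trdeg ((R ⧸ P.under R) ⧸ (Q.under R).map (Ideal.Quotient.mk (P.under R)))
      ((S ⧸ P) ⧸ Q.map (Ideal.Quotient.mk P)) = Algebra.trdeg (R ⧸ Q.under R) (S ⧸ Q) := by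
    haveI : Nontrivial ((R ⧸ P.under R) ⧸ (Q.under R).map (Ideal.Quotient.mk (P.under R))) :=
      Ideal.Quotient.nontrivial_iff.mpr (Ideal.IsPrime.ne_top inferInstance)
    refine DimIneq1.trdeg_eq_of_ringEquiv (DoubleQuot.quotQuotEquivQuotOfLE h0)
      (DoubleQuot.quotQuotEquivQuotOfLE hPQ) ?_
    apply Ideal.Quotient.ringHom_ext
    apply Ideal.Quotient.ringHom_ext
    ext a
    rfl
  have e1 : Cardinal.toNat (Algebra.trdeg (R ⧸ P.under R) (S ⧸ P)) = d + e := by
    rw [hsum, Cardinal.toNat_natCast]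
  have e2 : Cardinal.toNat (Algebra.trdeg (R ⧸ Q.under R) (S ⧸ Q)) = e := by
    rw [← htr, he, Cardinal.toNat_natCast]
  -- heights in `R`
  have htot : ∀ a b : PrimeSpectrum R, a ≤ ⟨Q.under R, inferInstance⟩ →
      b ≤ ⟨Q.under R, inferInstance⟩ → a ≤ b ∨ b ≤ a := by
    intro a b ha hb
    haveI := hR (Q.under R)
    exact prime_le_total (Q.under R) a.asIdeal b.asIdeal ha hb
  have hfin : Order.height (⟨Q.under R, inferInstance⟩ : PrimeSpectrum R) ≠ ⊤ := by
    rw [← PrimeSpectrum.height_eq_orderHeight]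
    exact Ideal.height_ne_top_of_isPrime (I := Q.under R)
  have hht : (Q.under R).height = (P.under R).height +
      ((Q.under R).map (Ideal.Quotient.mk (P.under R))).height := by
    have e1 : (Q.under R).height =
        Order.height (⟨Q.under R, inferInstance⟩ : PrimeSpectrum R) :=
      PrimeSpectrum.height_eq_orderHeight ⟨Q.under R, inferInstance⟩
    have e2 : (P.under R).height =
        Order.height (⟨P.under R, inferInstance⟩ : PrimeSpectrum R) :=
      PrimeSpectrum.height_eq_orderHeight ⟨P.under R, inferInstance⟩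
    rw [e1, e2, ← DimEq2.height_Ici_eq (P.under R) (Q.under R) h0]
    exact height_eq_add_height_Ici (⟨P.under R, inferInstance⟩ : PrimeSpectrum R)
      ⟨Q.under R, inferInstance⟩ h0 htot hfin
  have hfa : ((Q.under R).map (Ideal.Quotient.mk (P.under R))).height ≠ ⊤ :=
    Ideal.height_ne_top_of_isPrime
  obtain ⟨a, ha⟩ := ENat.ne_top_iff_exists.mp hfa
  have hle : ((Q.under R).map (Ideal.Quotient.mk (P.under R))).map
      (algebraMap (R ⧸ P.under R) (S ⧸ P)) ≤ Q.map (Ideal.Quotient.mk P) :=
    Ideal.map_le_iff_le_comap.mpr (Ideal.over_def (Q.map (Ideal.Quotient.mk P))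
      ((Q.under R).map (Ideal.Quotient.mk (P.under R)))).le
  refine ⟨d, a, ?_, ?_, ?_, ?_⟩
  · rw [e1, e2]
  · rw [hht, ENat.toNat_add Ideal.height_ne_top_of_isPrime hfa, ← ha, ENat.toNat_natCast]
  · intro hne
    by_contra hlt
    have hd0 : d = 0 := by omega
    have ha0 : a = 0 := by omega
    have hqbot : (Q.under R).map (Ideal.Quotient.mk (P.under R)) = ⊥ := by
      rw [← Ideal.height_eq_zero_iff_eq_bot, ← ha, ha0]
      rfl
    have hmem := mem_minimalPrimes_of_height_map_mk_eq_zero
      (((Q.under R).map (Ideal.Quotient.mk (P.under R))).map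
        (algebraMap (R ⧸ P.under R) (S ⧸ P))) (Q.map (Ideal.Quotient.mk P)) hle
      (by rw [hd, hd0]; rfl)
    rw [hqbot, Ideal.map_bot] at hmem
    have hmem' : Q.map (Ideal.Quotient.mk P) ∈ minimalPrimes (S ⧸ P) := hmem
    rw [IsDomain.minimalPrimes_eq_singleton_bot, Set.mem_singleton_iff] at hmem'
    have hcm := DimFT2.comap_map_mk' P Q hPQ
    rw [hmem', ← RingHom.ker_eq_comap_bot, Ideal.mk_ker] at hcm
    exact hne hcm
  · intro hcov
    have hstar : ∀ cb : Ideal (S ⧸ P), cb.IsPrime → cb < Q.map (Ideal.Quotient.mk P) →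
        cb = ⊥ := by
      intro cb hcb hlt
      haveI := hcb
      have hPc : P ≤ cb.comap (Ideal.Quotient.mk P) := by
        intro z hz
        rw [Ideal.mem_comap, Ideal.Quotient.eq_zero_iff_mem.mpr hz]
        exact cb.zero_mem
      have hcQ : cb.comap (Ideal.Quotient.mk P) ≤ Q := by
        have := Ideal.comap_mono (f := Ideal.Quotient.mk P) hlt.le
        rwa [DimFT2.comap_map_mk' P Q hPQ] at this
      have hmc : (cb.comap (Ideal.Quotient.mk P)).map (Ideal.Quotient.mk P) = cb :=
        Ideal.map_comap_of_surjective _ Ideal.Quotient.mk_surjective cb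
      rcases hcov (cb.comap (Ideal.Quotient.mk P)) (Ideal.comap_isPrime _ _) hPc hcQ with h | h
      · rw [← hmc, h, Ideal.map_quotient_self]
      · exfalso
        rw [h] at hmc
        exact hlt.ne hmc.symm
    have hQ1 : (Q.map (Ideal.Quotient.mk P)).height ≤ ((1 : ℕ) : ℕ∞) := by
      rw [Ideal.height_le_iff]
      intro cb hcb hlt
      rw [hstar cb hcb hlt, Ideal.height_bot]
      exact_mod_cast Nat.zero_lt_one
    haveI hpq : ((Q.map (Ideal.Quotient.mk P)).map (Ideal.Quotient.mk
        (((Q.under R).map (Ideal.Quotient.mk (P.under R))).map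
          (algebraMap (R ⧸ P.under R) (S ⧸ P))))).IsPrime :=
      DimFT2.isPrime_map_mk _ _ hle
    haveI hfh : ((Q.map (Ideal.Quotient.mk P)).map (Ideal.Quotient.mk
        (((Q.under R).map (Ideal.Quotient.mk (P.under R))).map
          (algebraMap (R ⧸ P.under R) (S ⧸ P))))).FiniteHeight :=
      ⟨Or.inr (by rw [hd]; exact ENat.natCast_ne_top d)⟩
    have hgd := height_add_le_of_hasGoingDown (R := R ⧸ P.under R) (S := S ⧸ P)
      ((Q.under R).map (Ideal.Quotient.mk (P.under R))) (Q.map (Ideal.Quotient.mk P))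
    rw [hd, ← ha] at hgd
    have h1 : ((a + d : ℕ) : ℕ∞) ≤ ((1 : ℕ) : ℕ∞) := by
      push_cast
      exact hgd.trans hQ1
    have h2 : a + d ≤ 1 := by exact_mod_cast h1
    omega

/-- The main theorem for S14735. -/
theorem S14735_main (R : Type u) [CommRing R] [IsDomain R]
    (hR : ∀ (p : Ideal R) [p.IsPrime], ValuationRing (Localization.AtPrime p))
    (hdim : ringKrullDim R < ⊤)
    (S : Type u) [CommRing S] [Algebra R S] [Algebra.FiniteType R S]
    (P Q : Ideal S) [P.IsPrime] [Q.IsPrime] (hPQ : P < Q) :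
    ((Cardinal.toNat (Algebra.trdeg (R ⧸ Q.under R) (S ⧸ Q)) : ℤ) - ((Q.under R).height.toNat : ℤ)
        < (Cardinal.toNat (Algebra.trdeg (R ⧸ P.under R) (S ⧸ P)) : ℤ) -
          ((P.under R).height.toNat : ℤ)) ∧
      ((⟨P, inferInstance⟩ : PrimeSpectrum S) ⋖ ⟨Q, inferInstance⟩ ↔
        (Cardinal.toNat (Algebra.trdeg (R ⧸ P.under R) (S ⧸ P)) : ℤ) -
          ((P.under R).height.toNat : ℤ)
        = (Cardinal.toNat (Algebra.trdeg (R ⧸ Q.under R) (S ⧸ Q)) : ℤ) -
          ((Q.under R).height.toNat : ℤ) + 1) := by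
  obtain ⟨d, a, h1, h2, h3, h4⟩ := key hR hdim P Q hPQ.le
  have h3' := h3 hPQ.ne
  refine ⟨by omega, ?_⟩
  constructor
  · intro hcov
    have h4' : d + a ≤ 1 := by
      apply h4
      intro c hc hPc hcQ
      by_contra hcon
      push Not at hcon
      have hPc' : (⟨P, inferInstance⟩ : PrimeSpectrum S) < ⟨c, hc⟩ :=
        lt_of_le_of_ne (show (⟨P, inferInstance⟩ : PrimeSpectrum S) ≤ ⟨c, hc⟩ from hPc)
          (fun h => hcon.1 (congrArg PrimeSpectrum.asIdeal h).symm)
      have hcQ' : (⟨c, hc⟩ : PrimeSpectrum S) < ⟨Q, inferInstance⟩ :=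
        lt_of_le_of_ne (show (⟨c, hc⟩ : PrimeSpectrum S) ≤ ⟨Q, inferInstance⟩ from hcQ)
          (fun h => hcon.2 (congrArg PrimeSpectrum.asIdeal h))
      exact hcov.2 hPc' hcQ'
    omega
  · intro heq
    refine ⟨show (⟨P, inferInstance⟩ : PrimeSpectrum S) < ⟨Q, inferInstance⟩ from hPQ,
      fun c hPc hcQ => ?_⟩
    haveI := c.isPrime
    obtain ⟨d₁, a₁, k1, k2, k3, _⟩ := key hR hdim P c.asIdeal (show P ≤ c.asIdeal from hPc.le)
    obtain ⟨d₂, a₂, l1, l2, l3, _⟩ := key hR hdim c.asIdeal Q (show c.asIdeal ≤ Q from hcQ.le)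
    have k3' := k3 (fun h => hPc.ne (PrimeSpectrum.ext h))
    have l3' := l3 (fun h => hcQ.ne (PrimeSpectrum.ext h))
    omega

end Groth.Agent.Helper7.PrufDim
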