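import Mathlib
import Groth.Prelude.Def_Found
import Groth.Agent.Lib.Helper7.PrufDim.Main

/-!
# Finite type algebras over finite-dimensional Prüfer domains are catenary of finite dimension
-/

set_option linter.style.haveILetI false
set_option linter.unusedVariables false
set_option linter.unusedSectionVars false
set_option autoImplicit false
set_option backward.isDefEq.respectTransparency.types false
set_option synthInstance.maxHeartbeats 400000
set_option maxHeartbeats 1600000

universe u

namespace Groth.Agent.Helper7.PrufDim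

section Loc

variable {S T : Type u} [CommRing S] [CommRing T] [Algebra S T] (M : Submonoid S)
  [IsLocalization M T]

include M in
theorem comap_le_reflect (p q : PrimeSpectrum T)
    (h : PrimeSpectrum.comap (algebraMap S T) p ≤ PrimeSpectrum.comap (algebraMap S T) q) :
    p ≤ q := by
  have h' : p.asIdeal.under S ≤ q.asIdeal.under S := h
  have h2 := Ideal.map_mono (f := algebraMap S T) h'
  rw [IsLocalization.map_under M T, IsLocalization.map_under M T] at h2
  exact h2

include M in
theorem comap_strictMono : StrictMono (PrimeSpectrum.comap (algebraMap S T)) := by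
  intro p q hpq
  refine lt_of_le_not_ge ?_ (fun h => hpq.not_ge (comap_le_reflect M q p h))
  show (p.asIdeal.comap (algebraMap S T)) ≤ (q.asIdeal.comap (algebraMap S T))
  exact Ideal.comap_mono (show p.asIdeal ≤ q.asIdeal from hpq.le)

include M in
theorem comap_covBy (p q : PrimeSpectrum T) (h : p ⋖ q) :
    PrimeSpectrum.comap (algebraMap S T) p ⋖ PrimeSpectrum.comap (algebraMap S T) q := by
  refine ⟨comap_strictMono M h.lt, fun c hpc hcq => ?_⟩
  have hq : PrimeSpectrum.comap (algebraMap S T) q ∈
      Set.range (PrimeSpectrum.comap (algebraMap S T)) := ⟨q, rfl⟩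
  rw [PrimeSpectrum.localization_comap_range T M] at hq
  have hc : c ∈ Set.range (PrimeSpectrum.comap (algebraMap S T)) := by
    rw [PrimeSpectrum.localization_comap_range T M]
    exact Set.disjoint_of_subset_right
      (show (c.asIdeal : Set S) ⊆ (PrimeSpectrum.comap (algebraMap S T) q).asIdeal from hcq.le) hq
  obtain ⟨c', rfl⟩ := hc
  have h1 : p < c' := lt_of_le_not_ge (comap_le_reflect M p c' hpc.le)
    (fun h' => hpc.not_ge ((comap_strictMono M).monotone h'))
  have h2 : c' < q := lt_of_le_not_ge (comap_le_reflect M c' q hcq.le)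
    (fun h' => hcq.not_ge ((comap_strictMono M).monotone h'))
  exact h.2 h1 h2

end Loc

/-- catenarity descends along strictly monotone, cover-preserving maps of spectra. -/
theorem isCatenary_of_embedding {S T : Type u} [CommRing S] [CommRing T]
    (φ : PrimeSpectrum T → PrimeSpectrum S) (hφ : StrictMono φ)
    (hcov : ∀ p q, p ⋖ q → φ p ⋖ φ q) (hS : CAlg.IsCatenary S) : CAlg.IsCatenary T := by
  refine ⟨fun p q hpq => ?_, fun s t hh hl hs ht => ?_⟩
  · obtain ⟨n, hn⟩ := hS.1 (φ p) (φ q) (hφ.monotone hpq)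
    refine ⟨n, fun s hsh hsl => ?_⟩
    have h1 := hn (s.map φ hφ) (by rw [LTSeries.head_map, hsh]) (by rw [LTSeries.last_map, hsl])
    exact h1
  · have h1 := hS.2 (s.map φ hφ) (t.map φ hφ)
      (by rw [LTSeries.head_map, LTSeries.head_map, hh])
      (by rw [LTSeries.last_map, LTSeries.last_map, hl])
      (fun (i : Fin s.length) =>
        show φ (s (Fin.castSucc i)) ⋖ φ (s (Fin.succ i)) from hcov _ _ (hs i))
      (fun (i : Fin t.length) =>
        show φ (t (Fin.castSucc i)) ⋖ φ (t (Fin.succ i)) from hcov _ _ (ht i))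
    exact h1

/-- the dimension function on the spectrum of an algebra over `R` -/
noncomputable def delta (R : Type u) [CommRing R] {S : Type u} [CommRing S] [Algebra R S]
    (P : PrimeSpectrum S) : ℤ :=
  (Cardinal.toNat (Algebra.trdeg (R ⧸ P.asIdeal.under R) (S ⧸ P.asIdeal)) : ℤ) -
    ((P.asIdeal.under R).height.toNat : ℤ)

theorem delta_step {R : Type u} [CommRing R] [IsDomain R]
    (hR : ∀ (p : Ideal R) [p.IsPrime], ValuationRing (Localization.AtPrime p))
    (hdim : ringKrullDim R < ⊤)
    {S : Type u} [CommRing S] [Algebra R S] [Algebra.FiniteType R S]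
    (p q : PrimeSpectrum S) (h : p < q) :
    delta R q < delta R p ∧ (p ⋖ q ↔ delta R p = delta R q + 1) :=
  S14735_main R hR hdim S p.asIdeal q.asIdeal h

theorem chain_le {R : Type u} [CommRing R] [IsDomain R]
    (hR : ∀ (p : Ideal R) [p.IsPrime], ValuationRing (Localization.AtPrime p))
    (hdim : ringKrullDim R < ⊤)
    {S : Type u} [CommRing S] [Algebra R S] [Algebra.FiniteType R S]
    (s : LTSeries (PrimeSpectrum S)) (i : Fin (s.length + 1)) :
    (i.1 : ℤ) ≤ delta R (s 0) - delta R (s i) := by
  induction i using Fin.induction with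
  | zero => simp
  | succ i ih =>
    have hlt : s i.castSucc < s i.succ := s.step i
    have h1 := (delta_step hR hdim _ _ hlt).1
    have e1 : ((i.succ : Fin (s.length + 1)).1 : ℤ) = (i.1 : ℤ) + 1 := by simp
    have e2 : ((i.castSucc : Fin (s.length + 1)).1 : ℤ) = (i.1 : ℤ) := by simp
    rw [e1]
    rw [e2] at ih
    omega

theorem chain_eq {R : Type u} [CommRing R] [IsDomain R]
    (hR : ∀ (p : Ideal R) [p.IsPrime], ValuationRing (Localization.AtPrime p))
    (hdim : ringKrullDim R < ⊤)
    {S : Type u} [CommRing S] [Algebra R S] [Algebra.FiniteType R S]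
    (s : LTSeries (PrimeSpectrum S))
    (hs : ∀ i : Fin s.length, s (Fin.castSucc i) ⋖ s (Fin.succ i)) (i : Fin (s.length + 1)) :
    (i.1 : ℤ) = delta R (s 0) - delta R (s i) := by
  induction i using Fin.induction with
  | zero => simp
  | succ i ih =>
    have hlt : s i.castSucc < s i.succ := s.step i
    have h1 := (delta_step hR hdim _ _ hlt).2.mp (hs i)
    have e1 : ((i.succ : Fin (s.length + 1)).1 : ℤ) = (i.1 : ℤ) + 1 := by simp
    have e2 : ((i.castSucc : Fin (s.length + 1)).1 : ℤ) = (i.1 : ℤ) := by simp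
    rw [e1]
    rw [e2] at ih
    omega

theorem isCatenary_S {R : Type u} [CommRing R] [IsDomain R]
    (hR : ∀ (p : Ideal R) [p.IsPrime], ValuationRing (Localization.AtPrime p))
    (hdim : ringKrullDim R < ⊤)
    (S : Type u) [CommRing S] [Algebra R S] [Algebra.FiniteType R S] : CAlg.IsCatenary S := by
  refine ⟨fun p q hpq => ⟨(delta R p - delta R q).toNat, fun s hsh hsl => ?_⟩,
    fun s t hh hl hs ht => ?_⟩
  · have h1 := chain_le hR hdim s (Fin.last _)
    have e0 : s 0 = p := hsh
    have el : s (Fin.last _) = q := hsl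
    rw [e0, el] at h1
    simp only [Fin.val_last] at h1
    omega
  · have h1 := chain_eq hR hdim s hs (Fin.last _)
    have h2 := chain_eq hR hdim t ht (Fin.last _)
    have e0 : s 0 = t 0 := hh
    have el : s (Fin.last _) = t (Fin.last _) := hl
    rw [e0, el] at h1
    simp only [Fin.val_last] at h1 h2
    omega

theorem trdeg_bound (R : Type u) [CommRing R] (S : Type u) [CommRing S] [Algebra R S]
    [Algebra.FiniteType R S] :
    ∃ N : ℕ, ∀ (P : Ideal S) [P.IsPrime],
      Cardinal.toNat (Algebra.trdeg (R ⧸ P.under R) (S ⧸ P)) ≤ N := by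
  obtain ⟨N, f, hf⟩ := Algebra.FiniteType.iff_quotient_mvPolynomial''.mp
    (inferInstance : Algebra.FiniteType R S)
  refine ⟨N, fun P _ => ?_⟩
  haveI : IsDomain (R ⧸ P.under R) := Ideal.Quotient.isDomain _
  obtain ⟨g, hgdef⟩ : ∃ g : MvPolynomial (Fin N) (R ⧸ P.under R) →ₐ[R ⧸ P.under R] (S ⧸ P),
      g = MvPolynomial.aeval (fun i => Ideal.Quotient.mk P (f (MvPolynomial.X i))) := ⟨_, rfl⟩
  have hcomm : (g : MvPolynomial (Fin N) (R ⧸ P.under R) →+* S ⧸ P).comp
      (MvPolynomial.map (Ideal.Quotient.mk (P.under R))) =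
      (Ideal.Quotient.mk P).comp (f : MvPolynomial (Fin N) R →+* S) := by
    apply MvPolynomial.ringHom_ext
    · intro r
      rw [RingHom.comp_apply, RingHom.comp_apply, MvPolynomial.map_C]
      show g (MvPolynomial.C (Ideal.Quotient.mk (P.under R) r)) =
        Ideal.Quotient.mk P (f (MvPolynomial.C r))
      rw [MvPolynomial.algHom_C, MvPolynomial.algHom_C]
      rfl
    · intro i
      rw [RingHom.comp_apply, RingHom.comp_apply, MvPolynomial.map_X]
      show g (MvPolynomial.X i) = Ideal.Quotient.mk P (f (MvPolynomial.X i))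
      rw [hgdef]
      exact MvPolynomial.aeval_X _ i
  have hg : Function.Surjective g := by
    intro y
    obtain ⟨s, rfl⟩ := Ideal.Quotient.mk_surjective y
    obtain ⟨poly, rfl⟩ := hf s
    exact ⟨MvPolynomial.map (Ideal.Quotient.mk (P.under R)) poly,
      congrArg (fun h => h poly) hcomm⟩
  have h1 : Algebra.trdeg (R ⧸ P.under R) (S ⧸ P) ≤
      Algebra.trdeg (R ⧸ P.under R) (MvPolynomial (Fin N) (R ⧸ P.under R)) :=
    trdeg_le_of_surjective g hg
  rw [MvPolynomial.trdeg_of_isDomain] at h1
  have h2 : Cardinal.lift.{u} (Cardinal.mk (Fin N)) = (N : Cardinal.{u}) := by simp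
  rw [h2] at h1
  have h3 := Cardinal.toNat_le_toNat h1 (Cardinal.natCast_lt_aleph0)
  rwa [Cardinal.toNat_natCast] at h3

theorem height_bound {R : Type u} [CommRing R] [Nontrivial R] (hdim : ringKrullDim R < ⊤) :
    ∃ D : ℕ, ∀ p : Ideal R, p.IsPrime → p.height.toNat ≤ D := by
  haveI := finiteRingKrullDim_of_lt_top hdim
  have h1 : ringKrullDim R ≠ ⊥ := ringKrullDim_ne_bot
  obtain ⟨m, hm⟩ := WithBot.ne_bot_iff_exists.mp h1
  have hmtop : m ≠ ⊤ := by
    rintro rfl
    rw [← hm] at hdim
    exact lt_irrefl _ hdim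
  obtain ⟨D, hDm⟩ := ENat.ne_top_iff_exists.mp hmtop
  refine ⟨D, fun p hp => ?_⟩
  have h2 : (p.height : WithBot ℕ∞) ≤ ringKrullDim R :=
    Ideal.height_le_ringKrullDim_of_ne_top hp.ne_top
  rw [← hm, WithBot.coe_le_coe, ← hDm] at h2
  exact ENat.toNat_le_of_le_natCast h2

theorem dim_lt_top {R : Type u} [CommRing R] [IsDomain R]
    (hR : ∀ (p : Ideal R) [p.IsPrime], ValuationRing (Localization.AtPrime p))
    (hdim : ringKrullDim R < ⊤)
    (S : Type u) [CommRing S] [Algebra R S] [Algebra.FiniteType R S] : ringKrullDim S < ⊤ := by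
  obtain ⟨N, hN⟩ := trdeg_bound R S
  obtain ⟨D, hD⟩ := height_bound hdim
  have hb : ∀ s : LTSeries (PrimeSpectrum S), s.length ≤ N + D := by
    intro s
    have h0 := chain_le hR hdim s (Fin.last _)
    have h1 := hN (s 0).asIdeal
    have h2 := hD ((s (Fin.last _)).asIdeal.under R) inferInstance
    unfold delta at h0
    simp only [Fin.val_last] at h0
    omega
  have hle : ringKrullDim S ≤ (((N + D : ℕ) : ℕ∞) : WithBot ℕ∞) := by
    show (⨆ (p : LTSeries (PrimeSpectrum S)), (p.length : WithBot ℕ∞)) ≤ _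
    refine iSup_le fun s => ?_
    exact_mod_cast hb s
  refine lt_of_le_of_lt hle ?_
  rw [← WithBot.coe_top]
  exact WithBot.coe_lt_coe.mpr (ENat.natCast_lt_top _)

/-- The main theorem for S14734. -/
theorem S14734_main (R : Type u) [CommRing R] [IsDomain R]
    (hR : ∀ (p : Ideal R) [p.IsPrime], ValuationRing (Localization.AtPrime p))
    (hdim : ringKrullDim R < ⊤)
    (S : Type u) [CommRing S] [Algebra R S] [Algebra.FiniteType R S]
    (M : Submonoid S) (T : Type u) [CommRing T] [Algebra S T] [IsLocalization M T] :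
    CAlg.IsCatenary S ∧ ringKrullDim S < ⊤ ∧ CAlg.IsCatenary T ∧ ringKrullDim T < ⊤ := by
  have hS := isCatenary_S hR hdim S
  have hdS := dim_lt_top hR hdim S
  refine ⟨hS, hdS, isCatenary_of_embedding _ (comap_strictMono M) (comap_covBy M) hS,
    lt_of_le_of_lt ?_ hdS⟩
  exact Order.krullDim_le_of_strictMono _ (comap_strictMono (T := T) M)

end Groth.Agent.Helper7.PrufDim
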